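import Mathlib.AlgebraicGeometry.Morphisms.FlatDescent
import Mathlib.AlgebraicGeometry.Morphisms.LocalFlatDescent
import Mathlib.AlgebraicGeometry.Morphisms.Finite
import Mathlib.AlgebraicGeometry.Morphisms.Proper
import Mathlib.AlgebraicGeometry.Morphisms.QuasiFinite
import Mathlib.RingTheory.Finiteness.Descent
import Groth.Agent.S0079
import Groth.Agent.S0080

/-! fpqc descent of affine, closed immersion, finite, integral, separated, proper, quasi-finite. -/

open CategoryTheory CategoryTheory.Limits AlgebraicGeometry MorphismProperty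

universe u

namespace Groth.Agent.Fpqc.Descent

set_option backward.isDefEq.respectTransparency.types false

local notation "fpqc" => (@Surjective ⊓ @Flat ⊓ @QuasiCompact : MorphismProperty Scheme)

theorem isLocalIso_inf_surjective_le :
    (@IsLocalIso ⊓ @Surjective : MorphismProperty Scheme.{u}) ≤
      (@Surjective ⊓ @Flat : MorphismProperty Scheme.{u}) := by
  rw [inf_comm]
  exact inf_le_inf le_rfl (IsLocalIso.le_of_isZariskiLocalAtSource _)

theorem faithfullyFlat_of_SpecMap {R S : CommRingCat.{u}} {f : R ⟶ S}
    (h : (@Surjective ⊓ @Flat : MorphismProperty Scheme.{u}) (Spec.map f)) :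
    f.hom.FaithfullyFlat := by
  rwa [← flat_and_surjective_SpecMap_iff, and_comm]

theorem isAffineHom :
    MorphismProperty.DescendsAlong @IsAffineHom (fpqc : MorphismProperty Scheme.{u}) := by
  have := S0079.result.{u}
  have := S0080.result.{u}
  apply IsZariskiLocalAtTarget.descendsAlong_inf_quasiCompact _ _ isLocalIso_inf_surjective_le
  intro R S Y φ g hφ hfst
  have hf : (fpqc : MorphismProperty Scheme.{u}) (Spec.map φ) := ⟨hφ, inferInstance⟩
  have : IsAffine (pullback (Spec.map φ) g) := isAffine_of_isAffineHom (pullback.fst (Spec.map φ) g)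
  have : QuasiCompact g := of_pullback_fst_of_descendsAlong hf
    (inferInstance : QuasiCompact (pullback.fst (Spec.map φ) g))
  have : QuasiSeparated g := of_pullback_fst_of_descendsAlong hf
    (inferInstance : QuasiSeparated (pullback.fst (Spec.map φ) g))
  have : CompactSpace Y := QuasiCompact.compactSpace_of_compactSpace g
  have : QuasiSeparatedSpace Y := quasiSeparatedSpace_of_quasiSeparated g
  have : Flat (Spec.map φ) := hφ.2
  have H : IsPullback (pullback.snd (Spec.map φ) g) (pullback.fst (Spec.map φ) g) g (Spec.map φ) :=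
    (IsPullback.of_hasPullback _ _).flip
  have hiso := isIso_pushoutSection_of_isQuasiSeparated_of_flat_right H (US := ⊤) (UT := ⊤)
    (UX := ⊤) (UY := ⊤) le_top le_top (by simp) (isAffineOpen_top _) (isAffineOpen_top _)
    isCompact_univ (isQuasiSeparated_univ_iff.mpr inferInstance)
  have hpo : IsPushout g.appTop (Spec.map φ).appTop (pullback.snd (Spec.map φ) g).appTop
      (pullback.fst (Spec.map φ) g).appTop := by
    simpa [Scheme.Hom.app_eq_appLE] using (isIso_pushoutSection_iff _ _ _ _).mp hiso
  have hsp := isPullback_SpecMap_of_isPushout _ _ _ _ hpo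
  have hbase : IsPullback (Spec.map φ) (Spec S).toSpecΓ (Spec R).toSpecΓ
      (Spec.map (Spec.map φ).appTop) :=
    IsPullback.of_vert_isIso ⟨Scheme.toSpecΓ_naturality _⟩
  have houter := H.paste_vert hbase
  rw [Scheme.toSpecΓ_naturality (pullback.fst (Spec.map φ) g), Scheme.toSpecΓ_naturality g] at houter
  have htop := IsPullback.of_bot houter (Scheme.toSpecΓ_naturality (pullback.snd (Spec.map φ) g)) hsp
  have hbr : (fpqc : MorphismProperty Scheme.{u}) (Spec.map (Spec.map φ).appTop) := by
    exact (MorphismProperty.arrow_mk_iso_iff (fpqc : MorphismProperty Scheme.{u})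
      (Arrow.isoMk (Spec S).isoSpec (Spec R).isoSpec (Scheme.toSpecΓ_naturality _).symm)).mp hf
  have hleft : (fpqc : MorphismProperty Scheme.{u}) (Spec.map (pullback.snd (Spec.map φ) g).appTop) :=
    MorphismProperty.of_isPullback hsp.flip hbr
  have : isomorphisms Scheme Y.toSpecΓ :=
    of_isPullback_of_descendsAlong (Q := (fpqc : MorphismProperty Scheme.{u})) htop.flip hleft
      (inferInstance : IsIso (pullback (Spec.map φ) g).toSpecΓ)
  have : IsAffine Y := ⟨this⟩
  infer_instance

theorem of_affineAnd {P : MorphismProperty Scheme.{u}} [P.IsStableUnderBaseChange]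
    {Q : ∀ {R S : Type u} [CommRing R] [CommRing S], (R →+* S) → Prop}
    (hP : HasAffineProperty P (affineAnd Q)) (hQ : RingHom.RespectsIso Q)
    (hQQ' : RingHom.CodescendsAlong Q RingHom.FaithfullyFlat) :
    P.DescendsAlong (fpqc : MorphismProperty Scheme.{u}) := by
  have := isAffineHom.{u}
  apply IsZariskiLocalAtTarget.descendsAlong_inf_quasiCompact _ _ isLocalIso_inf_surjective_le
  intro R S Y φ g h hf
  have : IsAffine Y := by
    have hg : IsAffineHom g :=
      MorphismProperty.of_pullback_fst_of_descendsAlong (Q := (fpqc : MorphismProperty Scheme.{u}))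
        ⟨h, inferInstance⟩ (HasAffineProperty.affineAnd_le_isAffineHom P inferInstance _ hf)
    exact isAffine_of_isAffineHom g
  wlog hY : ∃ T, Y = Spec T generalizing Y
  · rw [← P.cancel_left_of_respectsIso Y.isoSpec.inv]
    have heq : pullback.fst (Spec.map φ) (Y.isoSpec.inv ≫ g) =
        pullback.map _ _ _ _ (𝟙 _) (Y.isoSpec.inv) (𝟙 _) (by simp) (by simp) ≫
          pullback.fst (Spec.map φ) g := (pullback.lift_fst _ _ _).symm
    refine this _ ?_ inferInstance ⟨_, rfl⟩
    rwa [heq, P.cancel_left_of_respectsIso]
  obtain ⟨Y, rfl⟩ := hY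
  exact of_pullback_fst_Spec_of_codescendsAlong P (@Surjective ⊓ @Flat) hQQ'
    faithfullyFlat_of_SpecMap (HasAffineProperty.SpecMap_iff_of_affineAnd hP hQ _) h hf

theorem isClosedImmersion :
    MorphismProperty.DescendsAlong @IsClosedImmersion (fpqc : MorphismProperty Scheme.{u}) :=
  of_affineAnd (Q := fun {R S} _ _ f => Function.Surjective f) IsClosedImmersion.hasAffineProperty RingHom.surjective_respectsIso
    RingHom.FaithfullyFlat.codescendsAlong_surjective

theorem isFinite :
    MorphismProperty.DescendsAlong @IsFinite (fpqc : MorphismProperty Scheme.{u}) :=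
  of_affineAnd (Q := RingHom.Finite) inferInstance RingHom.finite_respectsIso
    RingHom.Finite.codescendsAlong_faithfullyFlat

open TensorProduct in
theorem isIntegral_codescendsAlong :
    RingHom.CodescendsAlong (fun {R S} _ _ (f : R →+* S) => f.IsIntegral)
      RingHom.FaithfullyFlat := by
  refine .mk _ RingHom.isIntegral_respectsIso fun R S T _ _ _ _ _ h h' ↦ ?_
  rw [RingHom.faithfullyFlat_algebraMap_iff] at h
  intro t
  let B := Algebra.adjoin R ({t} : Set T)
  have : Algebra.FiniteType R B :=
    (Subalgebra.fg_iff_finiteType B).mp ⟨{t}, by simp [B]⟩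
  let m : S ⊗[R] B →ₐ[S] S ⊗[R] T := Algebra.TensorProduct.map (AlgHom.id S S) B.val
  have hm : Function.Injective m :=
    Module.Flat.lTensor_preserves_injective_linearMap (M := S) B.val.toLinearMap Subtype.val_injective
  have : Algebra.IsIntegral S (S ⊗[R] B) := ⟨fun x => (isIntegral_algHom_iff m hm).mp (h' (m x))⟩
  have : Module.Finite S (S ⊗[R] B) := Algebra.IsIntegral.finite
  have : Module.Finite R B := Module.Finite.of_finite_tensorProduct_of_faithfullyFlat S
  have := Algebra.IsIntegral.of_finite R B
  exact (Algebra.IsIntegral.isIntegral (⟨t, Algebra.subset_adjoin rfl⟩ : B)).map B.val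

theorem isIntegralHom :
    MorphismProperty.DescendsAlong @IsIntegralHom (fpqc : MorphismProperty Scheme.{u}) :=
  of_affineAnd (Q := fun {R S} _ _ f => RingHom.IsIntegral f) IsIntegralHom.hasAffineProperty
    RingHom.isIntegral_respectsIso isIntegral_codescendsAlong

theorem isSeparated :
    MorphismProperty.DescendsAlong @IsSeparated (fpqc : MorphismProperty Scheme.{u}) := by
  have := isClosedImmersion.{u}
  rw [IsSeparated.isSeparated_eq_diagonal_isClosedImmersion]
  infer_instance

theorem descendsAlong_inf {P P' : MorphismProperty Scheme.{u}} [P.RespectsIso] [P'.RespectsIso]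
    (h : P.DescendsAlong (fpqc : MorphismProperty Scheme.{u}))
    (h' : P'.DescendsAlong (fpqc : MorphismProperty Scheme.{u})) :
    (P ⊓ P').DescendsAlong (fpqc : MorphismProperty Scheme.{u}) :=
  DescendsAlong.mk' fun hf hg =>
    ⟨of_pullback_fst_of_descendsAlong (Q := (fpqc : MorphismProperty Scheme.{u})) hf hg.1,
      of_pullback_fst_of_descendsAlong (Q := (fpqc : MorphismProperty Scheme.{u})) hf hg.2⟩

theorem isProper :
    MorphismProperty.DescendsAlong @IsProper (fpqc : MorphismProperty Scheme.{u}) := by
  rw [isProper_eq]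
  exact descendsAlong_inf (descendsAlong_inf isSeparated inferInstance) inferInstance

open TensorProduct in
theorem quasiFinite_codescendsAlong :
    RingHom.CodescendsAlong RingHom.QuasiFinite RingHom.FaithfullyFlat := by
  refine .mk _ RingHom.QuasiFinite.propertyIsLocal.respectsIso fun R S T _ _ _ _ _ h h' ↦ ?_
  rw [RingHom.faithfullyFlat_algebraMap_iff] at h
  rw [RingHom.quasiFinite_algebraMap] at h' ⊢
  refine ⟨fun p hp => ?_⟩
  obtain ⟨⟨q, hq⟩, hqp⟩ := PrimeSpectrum.comap_surjective_of_faithfullyFlat (A := R) (B := S) ⟨p, hp⟩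
  have : q.LiesOver p := ⟨(congrArg PrimeSpectrum.asIdeal hqp).symm⟩
  let := Localization.AtPrime.algebraOfLiesOver p q
  let e : q.Fiber (S ⊗[R] T) ≃ₐ[q.ResidueField] q.ResidueField ⊗[p.ResidueField] (p.Fiber T) :=
    (Algebra.TensorProduct.cancelBaseChange _ _ _ _ _).trans
      (Algebra.TensorProduct.cancelBaseChange _ _ _ _ _).symm
  have : Module.Finite q.ResidueField (q.ResidueField ⊗[p.ResidueField] (p.Fiber T)) :=
    .of_surjective e.toLinearMap e.surjective
  exact Module.Finite.of_finite_tensorProduct_of_faithfullyFlat q.ResidueField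

theorem locallyQuasiFinite_inf_locallyOfFiniteType :
    MorphismProperty.DescendsAlong
      (@LocallyQuasiFinite ⊓ @LocallyOfFiniteType : MorphismProperty Scheme.{u})
      (fpqc : MorphismProperty Scheme.{u}) :=
  descendsAlong_inf (HasRingHomProperty.descendsAlong_flat quasiFinite_codescendsAlong) inferInstance

end Groth.Agent.Fpqc.Descent
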