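import Mathlib.AlgebraicGeometry.Sites.Fpqc
import Mathlib.RingTheory.Flat.FaithfullyFlat.Algebra
import Mathlib.RingTheory.Noetherian.Basic

/-! Small lemmas for fppf covers. -/

open CategoryTheory AlgebraicGeometry

universe u

namespace Groth.Agent.Fpqc.Fppf

/-- Noetherianity descends along faithfully flat ring maps. -/
theorem isNoetherianRing_of_faithfullyFlat (A B : Type u) [CommRing A] [CommRing B] [Algebra A B]
    [Module.FaithfullyFlat A B] [IsNoetherianRing B] : IsNoetherianRing A := by
  rw [isNoetherianRing_iff, isNoetherian_iff']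
  refine StrictMono.wellFoundedGT (f := fun I : Ideal A => (I.map (algebraMap A B) : Submodule B B))
    (Monotone.strictMono_of_injective (fun I J h => Ideal.map_mono h) fun I J h => ?_)
  rw [← Ideal.comap_map_eq_self_of_faithfullyFlat (B := B) I, ← Ideal.comap_map_eq_self_of_faithfullyFlat (B := B) J]
  exact congrArg _ h

/-- Points are covered by the members of an fppf cover. -/
theorem exists_mem {X : Scheme.{u}} {R : Presieve X} (hR : R ∈ Scheme.fppfPrecoverage X) (x : X) :
    ∃ (T : Scheme.{u}) (g : T ⟶ X), R g ∧ ∃ t, g t = x := by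
  obtain ⟨_, g, hg, t, ht⟩ : ∃ (Y : Type u) (g : Y ⟶ Scheme.forget.obj X),
      Presieve.map Scheme.forget R g ∧ ∃ y, (ConcreteCategory.hom g) y = x := by simpa using hR.1 x
  obtain ⟨hg⟩ := hg
  exact ⟨_, _, hg, t, ht⟩

end Groth.Agent.Fpqc.Fppf
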